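import Cfsg.Agent.H58.Rec.Kill

/-!
# Frobenius groups from relations (helper867, task 2855, S3484)

* `frob_of_gens` : a set of commuting elements of exponent `q`, normalized by `c`;
* `frob_norm` : `x ^ q = y ^ n = (x y) ^ n = 1`, `n` an odd prime, `x` commutes with `y ^ k x y ^ -k` for `2 k < n`.
-/

set_option autoImplicit false

namespace Cfsg.Agent.H867.Rec

open Subgroup Cfsg.Agent.H58.Rec

section

variable {X : Type*} [Group X]

theorem comm_closure {B : Set X} (hB : ∀ a ∈ B, ∀ b ∈ B, a * b = b * a) :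
    ∀ a ∈ closure B, ∀ b ∈ closure B, a * b = b * a := by
  have h1 : closure B ≤ centralizer B := by
    rw [closure_le]
    intro a ha
    rw [SetLike.mem_coe, mem_centralizer_iff]
    exact fun b hb => hB b hb a ha
  have h2 : closure B ≤ centralizer (closure B : Set X) := by
    rw [closure_le]
    intro a ha
    rw [SetLike.mem_coe, mem_centralizer_iff]
    exact fun b hb => (mem_centralizer_iff.1 (h1 hb) a ha).symm
  exact fun a ha b hb => mem_centralizer_iff.1 (h2 hb) a ha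

theorem pow_closure {B : Set X} (hB : ∀ a ∈ B, ∀ b ∈ B, a * b = b * a) {q : ℕ} (hq : ∀ b ∈ B, b ^ q = 1) :
    ∀ a ∈ closure B, a ^ q = 1 := by
  have hc := comm_closure hB
  intro a ha
  induction ha using closure_induction with
  | mem x hx => exact hq x hx
  | one => exact one_pow q
  | mul x y hx hy h1 h2 =>
    have h3 : Commute x y := hc x hx y hy
    rw [h3.mul_pow, h1, h2, one_mul]
  | inv x hx h1 => rw [inv_pow, h1, inv_one]

theorem conj_closure {B : Set X} {c : X} (hc : ∀ b ∈ B, c * b * c⁻¹ ∈ closure B) :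
    ∀ a ∈ closure B, c * a * c⁻¹ ∈ closure B := by
  intro a ha
  induction ha using closure_induction with
  | mem x hx => exact hc x hx
  | one => rw [mul_one, mul_inv_cancel]; exact one_mem _
  | mul x y hx hy h1 h2 =>
    have : c * (x * y) * c⁻¹ = (c * x * c⁻¹) * (c * y * c⁻¹) := by group
    rw [this]
    exact mul_mem h1 h2
  | inv x hx h1 =>
    have : c * x⁻¹ * c⁻¹ = (c * x * c⁻¹)⁻¹ := by group
    rw [this]
    exact inv_mem h1

theorem conj_pow_closure {B : Set X} {c : X} (hc : ∀ b ∈ B, c * b * c⁻¹ ∈ closure B) (k : ℕ) :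
    ∀ a ∈ closure B, c ^ k * a * (c ^ k)⁻¹ ∈ closure B := by
  induction k with
  | zero => intro a ha; simpa using ha
  | succ k ih =>
    intro a ha
    have : c ^ (k + 1) * a * (c ^ (k + 1))⁻¹ = c * (c ^ k * a * (c ^ k)⁻¹) * c⁻¹ := by rw [pow_succ']; group
    rw [this]
    exact conj_closure hc _ (ih a ha)

theorem mem_normalizer_closure {B : Set X} {c : X} (hc : ∀ b ∈ B, c * b * c⁻¹ ∈ closure B) {n : ℕ} (hn : 0 < n)
    (hcn : c ^ n = 1) : c ∈ normalizer (closure B : Set X) := by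
  rw [mem_normalizer_iff]
  intro a
  constructor
  · exact fun ha => conj_closure hc a ha
  · intro ha
    have h1 := conj_pow_closure hc (n - 1) _ ha
    have h2 : c ^ (n - 1) * c = 1 := by rw [← pow_succ, Nat.sub_add_cancel hn, hcn]
    have h3 : c ^ (n - 1) * (c * a * c⁻¹) * (c ^ (n - 1))⁻¹ = (c ^ (n - 1) * c) * a * (c ^ (n - 1) * c)⁻¹ := by group
    rw [h3, h2, inv_one, one_mul, mul_one] at h1
    exact h1

/-- **Frobenius groups from generators.** -/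
theorem frob_of_gens {q n : ℕ} (hn : 0 < n) {B : Set X} {c : X} (hB1 : ∃ b ∈ B, b ≠ 1)
    (hBq : ∀ b ∈ B, b ^ q = 1) (hB : ∀ a ∈ B, ∀ b ∈ B, a * b = b * a) (hcB : ∀ b ∈ B, c * b * c⁻¹ ∈ closure B)
    (hc : orderOf c = n)
    (hfree : ∀ j, 0 < j → j < n → ∀ a ∈ closure B, a * c ^ j = c ^ j * a → a = 1) : HasFrob X q n := by
  refine ⟨closure B, c, ?_, ?_, mem_normalizer_closure hcB hn (hc ▸ pow_orderOf_eq_one c), hc, hfree⟩
  · rintro ⟨a, ha⟩
    exact ⟨1, by rw [pow_one]; exact Subtype.ext (pow_closure hB hBq a ha)⟩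
  · intro h
    obtain ⟨b, hb, hb1⟩ := hB1
    have h1 : b ∈ closure B := subset_closure hb
    rw [h, mem_bot] at h1
    exact hb1 h1

/-- the partial norm -/
theorem norm_succ (a y : X) (k : ℕ) :
    (a * y) ^ (k + 1) * (y ^ (k + 1))⁻¹ = (a * y) ^ k * (y ^ k)⁻¹ * (y ^ k * a * (y ^ k)⁻¹) := by
  rw [pow_succ, pow_succ]; group

theorem norm_mul {T : Subgroup X} (hT : ∀ a ∈ T, ∀ b ∈ T, a * b = b * a) {y : X}
    (hy : ∀ k : ℕ, ∀ a ∈ T, y ^ k * a * (y ^ k)⁻¹ ∈ T) {a b : X} (ha : a ∈ T) (hb : b ∈ T) (k : ℕ) :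
    (a * y) ^ k * (y ^ k)⁻¹ ∈ T ∧ (b * y) ^ k * (y ^ k)⁻¹ ∈ T ∧
      (a * b * y) ^ k * (y ^ k)⁻¹ = ((a * y) ^ k * (y ^ k)⁻¹) * ((b * y) ^ k * (y ^ k)⁻¹) := by
  induction k with
  | zero => simp
  | succ k ih =>
    obtain ⟨h1, h2, h3⟩ := ih
    rw [norm_succ, norm_succ, norm_succ, h3]
    set A := (a * y) ^ k * (y ^ k)⁻¹ with hA
    set C := (b * y) ^ k * (y ^ k)⁻¹ with hC
    have h4 := hy k a ha
    have h5 := hy k b hb
    refine ⟨T.mul_mem h1 h4, T.mul_mem h2 h5, ?_⟩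
    have h6 : y ^ k * (a * b) * (y ^ k)⁻¹ = (y ^ k * a * (y ^ k)⁻¹) * (y ^ k * b * (y ^ k)⁻¹) := by group
    rw [h6]
    have h7 := hT C h2 _ h4
    calc A * C * ((y ^ k * a * (y ^ k)⁻¹) * (y ^ k * b * (y ^ k)⁻¹))
        = A * (C * (y ^ k * a * (y ^ k)⁻¹)) * (y ^ k * b * (y ^ k)⁻¹) := by group
      _ = A * ((y ^ k * a * (y ^ k)⁻¹) * C) * (y ^ k * b * (y ^ k)⁻¹) := by rw [h7]
      _ = _ := by group

/-- the norm is trivial if it is trivial on the generators -/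
theorem norm_closure {B : Set X} (hB : ∀ a ∈ B, ∀ b ∈ B, a * b = b * a) {y : X}
    (hy : ∀ b ∈ B, y * b * y⁻¹ ∈ closure B) {n : ℕ} (h : ∀ b ∈ B, (b * y) ^ n * (y ^ n)⁻¹ = 1) :
    ∀ a ∈ closure B, (a * y) ^ n * (y ^ n)⁻¹ = 1 := by
  have hT := comm_closure hB
  have hTy := conj_pow_closure hy
  intro a ha
  induction ha using closure_induction with
  | mem b hb => exact h b hb
  | one => rw [one_mul, mul_inv_cancel]
  | mul a b ha hb h1 h2 => rw [(norm_mul hT hTy ha hb n).2.2, h1, h2, one_mul]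
  | inv a ha h1 =>
    have h2 := (norm_mul hT hTy ha (inv_mem ha) n).2.2
    rw [mul_inv_cancel, one_mul, mul_inv_cancel, h1, one_mul] at h2
    exact h2.symm

/-- an element with trivial norm commuting with `y` -/
theorem free_of_norm {a y : X} {q n : ℕ} (hqn : Nat.Coprime q n) (ha : a ^ q = 1)
    (hn : (a * y) ^ n * (y ^ n)⁻¹ = 1) (hay : Commute a y) : a = 1 := by
  rw [hay.mul_pow, mul_inv_cancel_right] at hn
  have h4 : orderOf a ∣ n := orderOf_dvd_of_pow_eq_one hn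
  have h5 : orderOf a ∣ q := orderOf_dvd_of_pow_eq_one ha
  have h6 : orderOf a ∣ 1 := by
    rw [← Nat.coprime_iff_gcd_eq_one.1 hqn]
    exact Nat.dvd_gcd h5 h4
  exact orderOf_eq_one_iff.1 (Nat.dvd_one.1 h6)

theorem comm_all {x y : X} {n : ℕ} (hn : 0 < n) (hodd : Odd n) (hy : y ^ n = 1)
    (h : ∀ k, 0 < k → 2 * k < n → Commute x (y ^ k * x * (y ^ k)⁻¹)) (k : ℕ) : Commute x (y ^ k * x * (y ^ k)⁻¹) := by
  have key : ∀ k, k < n → Commute x (y ^ k * x * (y ^ k)⁻¹) := by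
    intro k hk
    rcases Nat.eq_zero_or_pos k with rfl | hk0
    · simp
    rcases Nat.lt_or_ge (2 * k) n with h1 | h1
    · exact h k hk0 h1
    · obtain ⟨m, hm⟩ := hodd
      have h2 := h (n - k) (by omega) (by omega)
      have h3 : y ^ k * y ^ (n - k) = 1 := by rw [← pow_add, Nat.add_sub_cancel' hk.le, hy]
      have h4 : (y ^ (n - k)) = (y ^ k)⁻¹ := (inv_eq_of_mul_eq_one_right h3).symm
      rw [h4, inv_inv] at h2
      have h5 : Commute (y ^ k * x * (y ^ k)⁻¹) (y ^ k * ((y ^ k)⁻¹ * x * y ^ k) * (y ^ k)⁻¹) := by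
        show _ * _ = _ * _
        have h6 : x * ((y ^ k)⁻¹ * x * y ^ k) = ((y ^ k)⁻¹ * x * y ^ k) * x := h2
        calc y ^ k * x * (y ^ k)⁻¹ * (y ^ k * ((y ^ k)⁻¹ * x * y ^ k) * (y ^ k)⁻¹)
            = y ^ k * (x * ((y ^ k)⁻¹ * x * y ^ k)) * (y ^ k)⁻¹ := by group
          _ = y ^ k * (((y ^ k)⁻¹ * x * y ^ k) * x) * (y ^ k)⁻¹ := by rw [h6]
          _ = _ := by group
      have h6 : y ^ k * ((y ^ k)⁻¹ * x * y ^ k) * (y ^ k)⁻¹ = x := by group
      rw [h6] at h5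
      exact h5.symm
  have h1 : y ^ k = y ^ (k % n) := by
    conv_lhs => rw [← Nat.div_add_mod k n, pow_add, pow_mul, hy, one_pow, one_mul]
  rw [h1]
  exact key _ (Nat.mod_lt _ hn)

/-- **Frobenius groups from relations.** -/
theorem frob_norm {q n : ℕ} (hq : q.Prime) (hn : n.Prime) (hn2 : n ≠ 2) (hqn : q ≠ n) {x y : X} (hx : x ^ q = 1)
    (hx1 : x ≠ 1) (hy : y ^ n = 1) (hy1 : y ≠ 1) (hxy : (x * y) ^ n = 1)
    (h : ∀ k, 0 < k → 2 * k < n → Commute x (y ^ k * x * (y ^ k)⁻¹)) : HasFrob X q n := by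
  have hfn : Fact n.Prime := ⟨hn⟩
  set B : Set X := {b | ∃ k : ℕ, b = y ^ k * x * (y ^ k)⁻¹} with hBdef
  have hcomm := comm_all hn.pos (hn.odd_of_ne_two hn2) hy h
  have hB : ∀ a ∈ B, ∀ b ∈ B, a * b = b * a := by
    have key : ∀ i k : ℕ, Commute (y ^ i * x * (y ^ i)⁻¹) (y ^ (i + k) * x * (y ^ (i + k))⁻¹) := by
      intro i k
      have h1 : x * (y ^ k * x * (y ^ k)⁻¹) = (y ^ k * x * (y ^ k)⁻¹) * x := hcomm k
      show _ * _ = _ * _
      rw [pow_add]
      calc y ^ i * x * (y ^ i)⁻¹ * (y ^ i * y ^ k * x * (y ^ i * y ^ k)⁻¹)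
          = y ^ i * (x * (y ^ k * x * (y ^ k)⁻¹)) * (y ^ i)⁻¹ := by group
        _ = y ^ i * ((y ^ k * x * (y ^ k)⁻¹) * x) * (y ^ i)⁻¹ := by rw [h1]
        _ = _ := by group
    rintro a ⟨i, rfl⟩ b ⟨j, rfl⟩
    rcases Nat.le_total i j with hij | hij
    · obtain ⟨k, rfl⟩ := Nat.exists_eq_add_of_le hij
      exact (key i k).eq
    · obtain ⟨k, rfl⟩ := Nat.exists_eq_add_of_le hij
      exact (key j k).symm.eq
  have hBq : ∀ b ∈ B, b ^ q = 1 := by
    rintro b ⟨k, rfl⟩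
    rw [conj_pow, hx, mul_one, mul_inv_cancel]
  have hcB : ∀ b ∈ B, y * b * y⁻¹ ∈ closure B := by
    rintro b ⟨k, rfl⟩
    apply Subgroup.subset_closure
    exact ⟨k + 1, by rw [pow_succ']; group⟩
  have hTq := pow_closure hB hBq
  -- the norm is trivial
  have hnorm : ∀ a ∈ closure B, (a * y) ^ n * (y ^ n)⁻¹ = 1 := by
    refine norm_closure hB hcB ?_
    rintro b ⟨k, rfl⟩
    have h1 : y ^ k * x * (y ^ k)⁻¹ * y = y ^ k * (x * y) * (y ^ k)⁻¹ := by
      have : (y ^ k)⁻¹ * y = y * (y ^ k)⁻¹ := (((Commute.refl y).pow_left k).inv_left).eq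
      calc y ^ k * x * (y ^ k)⁻¹ * y = y ^ k * x * ((y ^ k)⁻¹ * y) := by group
        _ = y ^ k * x * (y * (y ^ k)⁻¹) := by rw [this]
        _ = _ := by group
    rw [h1, conj_pow, hxy, mul_one, mul_inv_cancel, hy, inv_one, one_mul]
  refine frob_of_gens hn.pos ⟨x, show ∃ k : ℕ, x = y ^ k * x * (y ^ k)⁻¹ from ⟨0, by simp⟩, hx1⟩ hBq hB hcB
    (orderOf_eq_prime hy hy1) ?_
  intro j hj hjn a ha hac
  -- `a` commutes with `y`
  have hyo : orderOf y = n := orderOf_eq_prime hy hy1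
  obtain ⟨m, hm⟩ := exists_pow_eq_self_of_coprime (n := j) (x := y) (by
    rw [hyo]
    exact (Nat.coprime_of_lt_prime hj.ne' hjn hn).symm)
  have h1 : Commute a y := by
    rw [← hm]
    exact Commute.pow_right hac m
  exact free_of_norm ((Nat.coprime_primes hq hn).2 hqn) (hTq a ha) (hnorm a ha) h1

end

end Cfsg.Agent.H867.Rec
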