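import Cfsg.Agent.H834.AGrp
import Cfsg.Agent.H867.Rec.Gen

/-!
# Frobenius subgroups `2^10 : 11` and `3^3 : 13` of `Fi22` (helper867, task 2855, S3484)

Words in the nine generators, evaluated on the 3510 points (tools of helper834).
-/

set_option autoImplicit false
set_option maxRecDepth 100000
set_option exponentiation.threshold 5000
set_option linter.constructorNameAsVariable false

namespace Cfsg.Agent.H867.Rec.FiFrob

open Cfsg.Spor Cfsg.Spor.Fi22 Cfsg.Agent.Lib.PermNet Cfsg.Agent.Lib.PermNetOrbit Cfsg.Agent.Lib.PermNetFix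
open Cfsg.Agent.Fischer Cfsg.Agent.Fischer.Fi22PtsRep
open Cfsg.Agent.H834 Cfsg.Agent.H834.AC Cfsg.Agent.H58.Rec Cfsg.Agent.H867.Rec

/-- a transposition -/
def tw : List Gen := [.d, .h, .c, .d, .e, .b, .c, .d, .h, .g, .f, .e, .d, .c, .b, .a, .b, .c, .d, .e, .f, .g, .h, .d, .c,
  .b, .e, .d, .c, .h, .d]

/-- an element of order 11 -/
def ew : List Gen := [.i, .e, .d, .g, .e, .f, .h, .a, .d, .c, .b, .i, .e, .d, .g, .e, .f, .h, .a, .d, .c, .b]

/-- an element of order 3 -/
def cw : List Gen := [.i, .h, .d, .e, .c, .d, .h, .f, .e, .d, .c, .b, .a, .b, .c, .d, .e, .f, .h, .d, .c, .e, .d, .h, .i,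
  .e, .d, .h, .i, .c, .d, .h, .e, .d, .c, .a, .b, .a, .b, .a, .c, .d, .e, .h, .d, .c, .i, .h, .d, .e, .f, .e, .d, .c, .a,
  .b, .a, .b, .a, .c, .d, .e, .f, .h, .d, .c, .b, .a, .b, .c, .d, .h]

/-- an element of order 13 -/
def dw : List Gen := [.b, .d, .c, .f, .e, .i, .a, .h]

/-- the two sides of the commutation relation of `x` and `y ^ k x y ^ -k` -/
def lhs (x y : List Gen) (k : ℕ) : List Gen := x ++ (rep k y ++ (x ++ (rep k y).reverse))
def rhs (x y : List Gen) (k : ℕ) : List Gen := (rep k y ++ (x ++ (rep k y).reverse)) ++ x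

theorem chk_t : eqB (rep 2 tw) [] = true := by decide +kernel
theorem chk_e : eqB (rep 11 ew) [] = true := by decide +kernel
theorem chk_te : eqB (rep 11 (tw ++ ew)) [] = true := by decide +kernel
theorem chk_tc : ([1, 2, 3, 4, 5].all fun k => eqB (lhs tw ew k) (rhs tw ew k)) = true := by decide +kernel

theorem chk_c : eqB (rep 3 cw) [] = true := by decide +kernel
theorem chk_d : eqB (rep 13 dw) [] = true := by decide +kernel
theorem chk_cd : eqB (rep 13 (cw ++ dw)) [] = true := by decide +kernel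
theorem chk_cc : ([1, 2, 3, 4, 5, 6].all fun k => eqB (lhs cw dw k) (rhs cw dw k)) = true := by decide +kernel

theorem chk_ne : ([tw, ew, cw, dw].all fun w => !(eqB w [])) = true := by decide +kernel

theorem eqL_of {u v : List Gen} (h : ∀ p, ptWord (nw u) p = ptWord (nw v) p) (l : List ℕ) : eqL u v l = true := by
  induction l with
  | nil => rfl
  | cons q l ih =>
    show and (Nat.beq (ptWord (nw u) q) (ptWord (nw v) q)) (eqL u v l) = true
    rw [ih, Bool.and_true, h q, Nat.beq_eq]

variable {G : Type*} [Group G] {D : Set G} (m : Model G D)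

include m in
theorem comm_of {x y : List Gen} {k : ℕ} (h : eqB (lhs x y k) (rhs x y k) = true) :
    Commute (m.wd x) (m.wd y ^ k * m.wd x * (m.wd y ^ k)⁻¹) := by
  have h1 := m.eq_of_eqB h
  rw [lhs, rhs] at h1
  simp only [Model.wd_append, Model.wd_reverse, Model.wd_rep] at h1
  show _ * _ = _ * _
  rw [mul_assoc (m.wd y ^ k)]
  exact h1

include m in
theorem ne_one_of {w : List Gen} (h : w ∈ [tw, ew, cw, dw]) : m.wd w ≠ 1 := by
  intro h1
  have h2 := List.all_eq_true.1 chk_ne w h
  have h3 : eqB w [] = true := by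
    refine eqL_of (fun p => ?_) _
    rw [← m.φ_wd_apply, ← m.φ_wd_apply, h1, m.wd_nil]
  rw [h3] at h2
  exact absurd h2 (by decide)

theorem pow_of {w : List Gen} {n : ℕ} (h : eqB (rep n w) [] = true) : m.wd w ^ n = 1 := by
  rw [← m.wd_rep, m.eq_of_eqB h, m.wd_nil]

include m in
/-- `2^10 : 11` -/
theorem frob_two_m : HasFrob G 2 11 := by
  refine frob_norm (x := m.wd tw) (y := m.wd ew) Nat.prime_two (by norm_num) (by norm_num) (by norm_num)
    (pow_of m chk_t) (ne_one_of m (by simp)) (pow_of m chk_e) (ne_one_of m (by simp)) ?_ ?_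
  · rw [← m.wd_append]
    exact pow_of m chk_te
  · intro k hk hk2
    apply comm_of m
    exact List.all_eq_true.1 chk_tc k (by
      have : k = 1 ∨ k = 2 ∨ k = 3 ∨ k = 4 ∨ k = 5 := by omega
      simpa using this)

include m in
/-- `3^3 : 13` -/
theorem frob_three_m : HasFrob G 3 13 := by
  refine frob_norm (x := m.wd cw) (y := m.wd dw) Nat.prime_three (by norm_num) (by norm_num) (by norm_num)
    (pow_of m chk_c) (ne_one_of m (by simp)) (pow_of m chk_d) (ne_one_of m (by simp)) ?_ ?_
  · rw [← m.wd_append]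
    exact pow_of m chk_cd
  · intro k hk hk2
    apply comm_of m
    exact List.all_eq_true.1 chk_cc k (by
      have : k = 1 ∨ k = 2 ∨ k = 3 ∨ k = 4 ∨ k = 5 ∨ k = 6 := by omega
      simpa using this)

/-- a model for each copy of `Fi22` -/
noncomputable def mdl {M : Type*} [Group M] (e : M ≃* Spor.Fi22) :
    Model M {x | ∃ g : M, x = g * e.symm (Fi22PtsRep.gen .a) * g⁻¹} :=
  ⟨e.symm, fun _ => Iff.rfl⟩

theorem frob_two {M : Type*} [Group M] (h : Spor.IsoFi22 M) : HasFrob M 2 11 := by
  obtain ⟨e⟩ := h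
  exact frob_two_m (mdl e)

theorem frob_three {M : Type*} [Group M] (h : Spor.IsoFi22 M) : HasFrob M 3 13 := by
  obtain ⟨e⟩ := h
  exact frob_three_m (mdl e)

end Cfsg.Agent.H867.Rec.FiFrob
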