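import Cfsg.Agent.H867.Rec.FiCand
import Cfsg.Agent.H867.Rec.SuzKer
import Cfsg.Agent.H867.Rec.FiFrob
import Cfsg.Agent.H559.FiSpec
import Cfsg.Agent.H385.PslRank
import Cfsg.Agent.H385.SuzOut
import Cfsg.Agent.H385.FiOut
import Cfsg.Agent.S2079
import Cfsg.Agent.S2074

/-!
# The group `Fi22` is recognizable by its element orders (helper867, task 2855, S3484)
-/

set_option autoImplicit false

namespace Cfsg.Agent.H867.Rec.RowFi

open Subgroup Cfsg Cfsg.Agent.H58.Rec Cfsg.Agent.H455.Isolated Cfsg.Agent.OrdDiv Cfsg.Agent.H436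
open Cfsg.Spor (Suz Fi22)

universe u v

theorem fi (n : ℕ) (h : ∀ {M : Type} [Group M], Spor.IsoFi22 M → ¬ HasOrd M n) {G : Type u} [Group G]
    (hs : Same G Fi22) : ¬ HasOrd G n := fun h1 => h ⟨MulEquiv.refl _⟩ ((hs n).1 h1)

/-- the prime divisors -/
theorem primes {G : Type u} [Group G] [Finite G] (hs : Same G Fi22) (q : ℕ) (hq : q.Prime)
    (hd : q ∣ Nat.card G) : q ∈ [2, 3, 5, 7, 11, 13] := by
  have hfin : Finite Fi22 := H559.FiSpec.finite_of ⟨MulEquiv.refl _⟩
  have h1 : q ∣ Nat.card Fi22 := (dvd_of_same hs hq).1 hd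
  rw [H559.FiSpec.card_eq ⟨MulEquiv.refl _⟩] at h1
  exact H306.Rec.mem_of_dvd_pow (ps := [2, 3, 5, 7, 11, 13]) (by decide +kernel) (m := 64561751654400) (k := 17)
    (by decide +kernel) hq h1

theorem rec_model (hN : NameHyp.{u}) {G : Type u} [Group G] [Finite G] (hs : Same G Fi22) : Nonempty (G ≃* Fi22) := by
  have hM : Spor.IsoFi22 Fi22 := ⟨MulEquiv.refl _⟩
  have hfin : Finite Fi22 := H559.FiSpec.finite_of hM
  have hcard : Nat.card Fi22 = 64561751654400 := H559.FiSpec.card_eq hM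
  have h26 := fi 26 H559.FiSpec.no26 hs
  have h28 := fi 28 H559.FiSpec.no28 hs
  have h33 := fi 33 H559.FiSpec.no33 hs
  have h35 := fi 35 H559.FiSpec.no35 hs
  have h42 := fi 42 H559.FiSpec.no42 hs
  have h44 := fi 44 H559.FiSpec.no44 hs
  have h45 := fi 45 H559.FiSpec.no45 hs
  have h55 := fi 55 H559.FiSpec.no55 hs
  have h77 := fi 77 H559.FiSpec.no77 hs
  have h91 := fi 91 H559.FiSpec.no91 hs
  have h121 := fi 121 H559.FiSpec.no121 hs
  have hg : Good G 13 := (H559.FiSpec.good13 hM).of_same hs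
  have hns : ¬ Group.IsSolvable G := by
    refine not_solvable_of_same hs (r := 13) (s := 11) (t := 5) (by norm_num) (by norm_num) (by norm_num) (by norm_num)
      (by norm_num) (by norm_num) (by rw [hcard]; norm_num) (by rw [hcard]; norm_num) (by rw [hcard]; norm_num)
      ?_ ?_ (H559.FiSpec.no55 hM)
    · exact H306.Rec.not_hasOrd_of_isolated (H559.FiSpec.isol13 hM) (s := 11) (by norm_num) (by norm_num) (by norm_num)
    · exact H306.Rec.not_hasOrd_of_isolated (H559.FiSpec.isol13 hM) (s := 5) (by norm_num) (by norm_num) (by norm_num)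
  have h2 : 2 ∣ Nat.card G := (dvd_of_same hs Nat.prime_two).2 (by rw [hcard]; norm_num)
  have h11 : 11 ∣ Nat.card G := (dvd_of_same hs (by norm_num)).2 (by rw [hcard]; norm_num)
  obtain ⟨X, hX, hXf, π, S, hred⟩ := exists_red hns h2 hg
  have h := hred 13 hg
  have hSn := h.normal
  have hpr := primes hs
  rcases FiCand.socle_cases hN h hpr h11 h33 h35 h44 h55 h91 h121 H385.PslRank.psl_rank_27 H385.PslRank.psl_rank_25
    with ⟨⟨e⟩⟩ | ⟨⟨e⟩⟩
  · exfalso
    have hk := SuzKer.kernel h e hpr h33 h42 h45 h55 h77 h121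
    obtain ⟨f⟩ := finish h hk e (Or.inr ⟨S2074.result, by
      intro _ hidx _ hall
      rcases H385.SuzOut.suz_out S hidx ⟨e⟩ with h1 | h1
      · exact h28 (hall 28 h1)
      · exact h42 (hall 42 h1)⟩)
    have h22 : HasOrd Suz 22 := ((hs 22).2 (H559.FiSpec.has22 hM)).congr f
    exact H109.RecSuz.not_of_eleven (s := 2) (by norm_num) (by norm_num) (by norm_num) h22
  · have hF2 : HasFrob S 2 11 := FiFrob.frob_two ⟨e⟩
    have hF3 : HasFrob S 3 13 := FiFrob.frob_three ⟨e⟩
    have hk : ∀ p : ℕ, p.Prime → p ∣ Nat.card G → ¬ p ∣ Nat.card π.ker := by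
      intro p hp hd
      have h1 := hpr p hp hd
      simp only [List.mem_cons, List.not_mem_nil, or_false] at h1
      rcases h1 with rfl | rfl | rfl | rfl | rfl | rfl
      · exact h.kill' hp Nat.prime_three (by norm_num) hF3 h26
      · exact h.kill' hp Nat.prime_two (by norm_num) hF2 h33
      · exact h.kill' hp Nat.prime_two (by norm_num) hF2 h55
      · exact h.kill' hp Nat.prime_two (by norm_num) hF2 h77
      · exact h.kill' hp Nat.prime_two (by norm_num) hF2 h121
      · exact h.not_dvd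
    exact finish h hk e (Or.inr ⟨S2079.result, by
      intro _ hidx _ hall
      exact h42 (hall 42 (H385.FiOut.fi_out S hidx ⟨e⟩))⟩)

/-- **`Fi22` is recognizable by its element orders.** -/
theorem rec_fi22 (hN : NameHyp.{u}) {G : Type u} [Group G] [Finite G] {M : Type v} [Group M] [Finite M]
    (hM : Spor.IsoFi22 M) (h : Same G M) : Nonempty (G ≃* M) := by
  obtain ⟨e⟩ := hM
  obtain ⟨f⟩ := rec_model hN (G := G) (fun n => (h n).trans ⟨fun h1 => h1.congr e, fun h1 => h1.congr e.symm⟩)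
  exact ⟨f.trans e.symm⟩

end Cfsg.Agent.H867.Rec.RowFi
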